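import Cfsg.Agent.Tits.Exchange

/-!
# The Iwahori–Hecke algebra of a finite Coxeter group with a real parameter: the centre (helper116)

`L cs t i`, `R cs t i` : left and right multiplication by `T_{s_i}` in the Hecke algebra with parameter `t`, in
coordinates `v : W → ℂ` (`v` stands for `∑ v w T_w`). `Z cs t` : the common kernel of `L i - R i`, the centre.

* `comm` : `L i` and `R j` commute; `L_sq`, `R_sq` : the quadratic relations;
* `finrank_Z_const` : the dimension of `Z cs t` is the same for all real `t > 0` (Tits' deformation argument in an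
  elementary form: a Casimir operator is onto the centre because of a positive definite form, and ranks are lower
  semicontinuous);
* `finrank_Z` : it is the number of conjugacy classes of `W`.
-/

set_option autoImplicit false
set_option linter.unusedSectionVars false

namespace Cfsg.Agent.H116.HeckeA

open CoxeterSystem Cfsg.Agent.Tits.Exchange Module
open scoped ComplexConjugate

variable {I W : Type*} {M : CoxeterMatrix I} [Group W] (cs : CoxeterSystem M W)

/-- Left multiplication by `T_{s_i}`. -/
noncomputable def L (t : ℝ) (i : I) : Module.End ℂ (W → ℂ) where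
  toFun v x := if cs.length (cs.simple i * x) < cs.length x then
      v (cs.simple i * x) + ((t : ℂ) - 1) * v x
    else (t : ℂ) * v (cs.simple i * x)
  map_add' u v := by
    funext x
    simp only [Pi.add_apply]
    split_ifs <;> ring
  map_smul' c v := by
    funext x
    simp only [Pi.smul_apply, smul_eq_mul, RingHom.id_apply]
    split_ifs <;> ring

/-- Right multiplication by `T_{s_i}`. -/
noncomputable def R (t : ℝ) (i : I) : Module.End ℂ (W → ℂ) where
  toFun v x := if cs.length (x * cs.simple i) < cs.length x then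
      v (x * cs.simple i) + ((t : ℂ) - 1) * v x
    else (t : ℂ) * v (x * cs.simple i)
  map_add' u v := by
    funext x
    simp only [Pi.add_apply]
    split_ifs <;> ring
  map_smul' c v := by
    funext x
    simp only [Pi.smul_apply, smul_eq_mul, RingHom.id_apply]
    split_ifs <;> ring

theorem L_apply (t : ℝ) (i : I) (v : W → ℂ) (x : W) :
    L cs t i v x = if cs.length (cs.simple i * x) < cs.length x then
      v (cs.simple i * x) + ((t : ℂ) - 1) * v x else (t : ℂ) * v (cs.simple i * x) := rfl

theorem R_apply (t : ℝ) (i : I) (v : W → ℂ) (x : W) :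
    R cs t i v x = if cs.length (x * cs.simple i) < cs.length x then
      v (x * cs.simple i) + ((t : ℂ) - 1) * v x else (t : ℂ) * v (x * cs.simple i) := rfl

theorem lenL (i : I) (x : W) : cs.length (cs.simple i * x) = cs.length x + 1 ∨
    cs.length (cs.simple i * x) + 1 = cs.length x := cs.length_simple_mul x i

theorem lenR (i : I) (x : W) : cs.length (x * cs.simple i) = cs.length x + 1 ∨
    cs.length (x * cs.simple i) + 1 = cs.length x := cs.length_mul_simple x i

/-- The quadratic relation. -/
theorem L_sq (t : ℝ) (i : I) : L cs t i * L cs t i = ((t : ℂ) - 1) • L cs t i + (t : ℂ) • 1 := by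
  apply LinearMap.ext
  intro v
  funext x
  simp only [Module.End.mul_apply, LinearMap.add_apply, LinearMap.smul_apply, Module.End.one_apply, Pi.add_apply,
    Pi.smul_apply, smul_eq_mul]
  rw [L_apply, L_apply cs t i v x, L_apply cs t i v (cs.simple i * x)]
  have h1 : cs.simple i * (cs.simple i * x) = x := by simp
  rw [h1]
  rcases lenL cs i x with h | h
  · rw [if_neg (by omega), if_pos (by omega), if_neg (by omega)]
    ring
  · rw [if_pos (by omega), if_neg (by omega), if_pos (by omega)]
    ring

/-- The quadratic relation. -/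
theorem R_sq (t : ℝ) (i : I) : R cs t i * R cs t i = ((t : ℂ) - 1) • R cs t i + (t : ℂ) • 1 := by
  apply LinearMap.ext
  intro v
  funext x
  simp only [Module.End.mul_apply, LinearMap.add_apply, LinearMap.smul_apply, Module.End.one_apply, Pi.add_apply,
    Pi.smul_apply, smul_eq_mul]
  rw [R_apply, R_apply cs t i v x, R_apply cs t i v (x * cs.simple i)]
  have h1 : x * cs.simple i * cs.simple i = x := by simp
  rw [h1]
  rcases lenR cs i x with h | h
  · rw [if_neg (by omega), if_pos (by omega), if_neg (by omega)]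
    ring
  · rw [if_pos (by omega), if_neg (by omega), if_pos (by omega)]
    ring

theorem eq_of_len {i j : I} {x : W} (h : cs.length (cs.simple i * x) = cs.length (x * cs.simple j))
    (h' : cs.length (cs.simple i * x * cs.simple j) = cs.length x) : cs.simple i * x = x * cs.simple j := by
  rcases lenL cs i x with h1 | h1
  · rcases fold cs h1 (h ▸ h1) with h2 | h2
    · omega
    · exact h2
  · have h3 : cs.simple i * (cs.simple i * x) = x := by simp
    have h4 : cs.length (cs.simple i * (cs.simple i * x)) = cs.length (cs.simple i * x) + 1 := by rw [h3]; omega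
    have h5 : cs.length (cs.simple i * x * cs.simple j) = cs.length (cs.simple i * x) + 1 := by omega
    rcases fold cs h4 h5 with h6 | h6
    · rw [h3] at h6
      omega
    · rw [h3] at h6
      have h7 : x * cs.simple j = cs.simple i * x := by
        conv_lhs => rw [h6]
        simp [mul_assoc]
      exact h7.symm

/-- Left and right multiplications commute. -/
theorem comm (t : ℝ) (i j : I) : L cs t i * R cs t j = R cs t j * L cs t i := by
  apply LinearMap.ext
  intro v
  funext x
  simp only [Module.End.mul_apply]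
  rw [L_apply, R_apply cs t j v x, R_apply cs t j v (cs.simple i * x), R_apply, L_apply cs t i v x,
    L_apply cs t i v (x * cs.simple j), ← mul_assoc (cs.simple i) x (cs.simple j)]
  rcases lenL cs i x with h1 | h1 <;> rcases lenR cs j x with h2 | h2 <;>
    rcases lenR cs j (cs.simple i * x) with h3 | h3
  · rw [if_neg (by omega), if_neg (by omega), if_neg (by omega), if_neg (by omega)]
  · have h4 := eq_of_len cs (i := i) (j := j) (x := x) (by omega) (by omega)
    rw [if_neg (by omega), if_pos (by omega), if_neg (by omega), if_pos (by omega), h4]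
  · exfalso
    rcases lenL cs i (x * cs.simple j) with h4 | h4 <;> rw [← mul_assoc] at h4 <;> omega
  · rw [if_neg (by omega), if_pos (by omega), if_pos (by omega), if_neg (by omega), if_neg (by omega)]
    ring
  · rw [if_pos (by omega), if_neg (by omega), if_neg (by omega), if_neg (by omega), if_pos (by omega)]
    ring
  · exfalso
    rcases lenL cs i (x * cs.simple j) with h4 | h4 <;> rw [← mul_assoc] at h4 <;> omega
  · have h4 := eq_of_len cs (i := i) (j := j) (x := x) (by omega) (by omega)
    rw [if_pos (by omega), if_neg (by omega), if_pos (by omega), if_pos (by omega), if_neg (by omega),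
      if_pos (by omega), h4]
  · rw [if_pos (by omega), if_pos (by omega), if_pos (by omega), if_pos (by omega), if_pos (by omega),
      if_pos (by omega)]
    ring


/-! ### Basis vectors and words -/

section Words

/-- Left multiplication by a word. -/
noncomputable def LL (t : ℝ) (ω : List I) : Module.End ℂ (W → ℂ) := (ω.map (L cs t)).prod

/-- Right multiplication by the reverse of a word. -/
noncomputable def RR (t : ℝ) (ω : List I) : Module.End ℂ (W → ℂ) := (ω.map (R cs t)).prod

theorem LL_nil (t : ℝ) : LL cs t [] = 1 := rfl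

theorem RR_nil (t : ℝ) : RR cs t [] = 1 := rfl

theorem LL_cons (t : ℝ) (i : I) (ω : List I) : LL cs t (i :: ω) = L cs t i * LL cs t ω := by
  unfold LL
  rw [List.map_cons, List.prod_cons]

theorem RR_cons (t : ℝ) (i : I) (ω : List I) : RR cs t (i :: ω) = R cs t i * RR cs t ω := by
  unfold RR
  rw [List.map_cons, List.prod_cons]

theorem LL_append (t : ℝ) (ω ω' : List I) : LL cs t (ω ++ ω') = LL cs t ω * LL cs t ω' := by
  unfold LL
  rw [List.map_append, List.prod_append]

theorem commL (t : ℝ) (ω : List I) (j : I) : LL cs t ω * R cs t j = R cs t j * LL cs t ω := by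
  induction ω with
  | nil => rw [LL_nil, one_mul, mul_one]
  | cons i ω ih => rw [LL_cons, mul_assoc, ih, ← mul_assoc, comm, mul_assoc]

theorem commR (t : ℝ) (ω : List I) (j : I) : L cs t j * RR cs t ω = RR cs t ω * L cs t j := by
  induction ω with
  | nil => rw [RR_nil, one_mul, mul_one]
  | cons i ω ih => rw [RR_cons, ← mul_assoc, comm, mul_assoc, ih, mul_assoc]

theorem commLR (t : ℝ) (ω ω' : List I) : LL cs t ω * RR cs t ω' = RR cs t ω' * LL cs t ω := by
  induction ω' with
  | nil => rw [RR_nil, one_mul, mul_one]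
  | cons i ω' ih => rw [RR_cons, ← mul_assoc, commL, mul_assoc, ih, mul_assoc]

theorem reduced_tail {i : I} {ω : List I} (h : cs.IsReduced (i :: ω)) : cs.IsReduced ω := by
  have := h.drop 1
  simpa using this

/-- A reduced word of `w`. -/
noncomputable def wd (w : W) : List I := (cs.exists_isReduced w).choose

theorem wd_reduced (w : W) : cs.IsReduced (wd cs w) := (cs.exists_isReduced w).choose_spec.1

theorem wd_prod (w : W) : cs.wordProd (wd cs w) = w := (cs.exists_isReduced w).choose_spec.2.symm

theorem wd_one : wd cs (1 : W) = [] := by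
  have h := (wd_reduced cs (1 : W)).eq
  rw [wd_prod, cs.length_one] at h
  exact List.length_eq_zero_iff.1 h.symm

theorem key (t : ℝ) (i : I) : (L cs t i - R cs t i) * ((t : ℂ) • 1 + L cs t i * R cs t i) = 0 := by
  have h1 : L cs t i * (L cs t i * R cs t i) = ((t : ℂ) - 1) • (L cs t i * R cs t i) + (t : ℂ) • R cs t i := by
    rw [← mul_assoc, L_sq, add_mul, smul_mul_assoc, smul_mul_assoc, one_mul]
  have h2 : R cs t i * (L cs t i * R cs t i) = ((t : ℂ) - 1) • (L cs t i * R cs t i) + (t : ℂ) • L cs t i := by
    rw [comm, ← mul_assoc, R_sq, add_mul, smul_mul_assoc, smul_mul_assoc, one_mul]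
  rw [sub_mul, mul_add, mul_add, h1, h2, mul_smul_comm, mul_smul_comm, mul_one, mul_one]
  abel

variable [DecidableEq W]

/-- The basis vector `T_w`. -/
noncomputable def e (w : W) : W → ℂ := Pi.single w 1

theorem L_e (t : ℝ) {i : I} {w : W} (h : cs.length w < cs.length (cs.simple i * w)) :
    L cs t i (e w) = e (cs.simple i * w) := by
  funext x
  rw [L_apply]
  unfold e
  by_cases hx : x = cs.simple i * w
  · subst hx
    have h1 : cs.simple i * (cs.simple i * w) = w := by simp
    have h2 : cs.simple i * w ≠ w := fun h3 => by rw [h3] at h; omega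
    rw [h1, if_pos h, Pi.single_eq_same, Pi.single_eq_same, Pi.single_eq_of_ne h2]
    ring
  · have h1 : cs.simple i * x ≠ w := by
      rintro rfl
      exact hx (by simp)
    rw [Pi.single_eq_of_ne h1, Pi.single_eq_of_ne hx]
    by_cases hxw : x = w
    · subst hxw
      rw [if_neg (by omega)]
      ring
    · rw [Pi.single_eq_of_ne hxw]
      split_ifs <;> ring

theorem R_e (t : ℝ) {i : I} {w : W} (h : cs.length w < cs.length (w * cs.simple i)) :
    R cs t i (e w) = e (w * cs.simple i) := by
  funext x
  rw [R_apply]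
  unfold e
  by_cases hx : x = w * cs.simple i
  · subst hx
    have h1 : w * cs.simple i * cs.simple i = w := by simp
    have h2 : w * cs.simple i ≠ w := fun h3 => by rw [h3] at h; omega
    rw [h1, if_pos h, Pi.single_eq_same, Pi.single_eq_same, Pi.single_eq_of_ne h2]
    ring
  · have h1 : x * cs.simple i ≠ w := by
      rintro rfl
      exact hx (by simp)
    rw [Pi.single_eq_of_ne h1, Pi.single_eq_of_ne hx]
    by_cases hxw : x = w
    · subst hxw
      rw [if_neg (by omega)]
      ring
    · rw [Pi.single_eq_of_ne hxw]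
      split_ifs <;> ring

theorem LL_e_one (t : ℝ) {ω : List I} (h : cs.IsReduced ω) : LL cs t ω (e 1) = e (cs.wordProd ω) := by
  induction ω with
  | nil => rw [LL_nil, Module.End.one_apply, wordProd_nil]
  | cons i ω ih =>
    have h1 := reduced_tail cs h
    rw [LL_cons, Module.End.mul_apply, ih h1, L_e, wordProd_cons]
    rw [← wordProd_cons, h.eq, h1.eq, List.length_cons]
    omega

theorem RR_e_one (t : ℝ) {ω : List I} (h : cs.IsReduced ω) : RR cs t ω (e 1) = e (cs.wordProd ω)⁻¹ := by
  induction ω with
  | nil => rw [RR_nil, Module.End.one_apply, wordProd_nil, inv_one]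
  | cons i ω ih =>
    have h1 := reduced_tail cs h
    rw [RR_cons, Module.End.mul_apply, ih h1, R_e, wordProd_cons, mul_inv_rev, cs.inv_simple]
    have h2 : (cs.wordProd ω)⁻¹ * cs.simple i = (cs.wordProd (i :: ω))⁻¹ := by
      rw [wordProd_cons, mul_inv_rev, cs.inv_simple]
    rw [h2, cs.length_inv, cs.length_inv, h.eq, h1.eq, List.length_cons]
    omega

/-- Two operators which commute with all right multiplications and agree at `T_1` agree. -/
theorem ext_left [Fintype W] {t : ℝ} {a b : Module.End ℂ (W → ℂ)}
    (ha : ∀ ω, a * RR cs t ω = RR cs t ω * a) (hb : ∀ ω, b * RR cs t ω = RR cs t ω * b)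
    (h : a (e 1) = b (e 1)) : a = b := by
  refine LinearMap.pi_ext' fun x => ?_
  apply LinearMap.ext_ring
  obtain ⟨ω, hω, hx⟩ := cs.exists_isReduced x⁻¹
  have h1 : RR cs t ω (e 1) = e x := by rw [RR_e_one cs t hω, ← hx, inv_inv]
  have h2 : ∀ c : Module.End ℂ (W → ℂ), (∀ ω, c * RR cs t ω = RR cs t ω * c) → c (e x) = RR cs t ω (c (e 1)) := by
    intro c hc
    rw [← h1, ← Module.End.mul_apply, hc, Module.End.mul_apply]
  simp only [LinearMap.comp_apply, LinearMap.single_apply]
  exact (h2 a ha).trans ((congrArg _ h).trans (h2 b hb).symm)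

/-- Two operators which commute with all left multiplications and agree at `T_1` agree. -/
theorem ext_right [Fintype W] {t : ℝ} {a b : Module.End ℂ (W → ℂ)}
    (ha : ∀ ω, a * LL cs t ω = LL cs t ω * a) (hb : ∀ ω, b * LL cs t ω = LL cs t ω * b)
    (h : a (e 1) = b (e 1)) : a = b := by
  refine LinearMap.pi_ext' fun x => ?_
  apply LinearMap.ext_ring
  obtain ⟨ω, hω, hx⟩ := cs.exists_isReduced x
  have h1 : LL cs t ω (e 1) = e x := by rw [LL_e_one cs t hω, ← hx]
  have h2 : ∀ c : Module.End ℂ (W → ℂ), (∀ ω, c * LL cs t ω = LL cs t ω * c) → c (e x) = LL cs t ω (c (e 1)) := by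
    intro c hc
    rw [← h1, ← Module.End.mul_apply, hc, Module.End.mul_apply]
  simp only [LinearMap.comp_apply, LinearMap.single_apply]
  exact (h2 a ha).trans ((congrArg _ h).trans (h2 b hb).symm)

theorem LL_wd_mul [Fintype W] (t : ℝ) {i : I} {w : W} (h : cs.length w < cs.length (cs.simple i * w)) :
    LL cs t (wd cs (cs.simple i * w)) = L cs t i * LL cs t (wd cs w) := by
  apply ext_left cs (t := t)
  · exact fun ω => commLR cs t _ ω
  · intro ω
    rw [← LL_cons]
    exact commLR cs t _ ω
  · rw [LL_e_one cs t (wd_reduced cs _), wd_prod, Module.End.mul_apply, LL_e_one cs t (wd_reduced cs _), wd_prod, L_e cs t h]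

theorem RR_wd_mul [Fintype W] (t : ℝ) {i : I} {w : W} (h : cs.length w < cs.length (cs.simple i * w)) :
    RR cs t (wd cs (cs.simple i * w)) = R cs t i * RR cs t (wd cs w) := by
  have h1 : w⁻¹ * cs.simple i = (cs.simple i * w)⁻¹ := by rw [mul_inv_rev, cs.inv_simple]
  apply ext_right cs (t := t)
  · exact fun ω => (commLR cs t ω _).symm
  · intro ω
    rw [← RR_cons]
    exact (commLR cs t ω _).symm
  · rw [RR_e_one cs t (wd_reduced cs _), wd_prod, Module.End.mul_apply, RR_e_one cs t (wd_reduced cs _), wd_prod, R_e, h1]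
    rw [h1, cs.length_inv, cs.length_inv]
    exact h

/-- `x ↦ T_w x T_{w⁻¹}`. -/
noncomputable def A (t : ℝ) (w : W) : Module.End ℂ (W → ℂ) := LL cs t (wd cs w) * RR cs t (wd cs w)

theorem A_mul [Fintype W] (t : ℝ) {i : I} {w : W} (h : cs.length w < cs.length (cs.simple i * w)) :
    A cs t (cs.simple i * w) = L cs t i * R cs t i * A cs t w := by
  unfold A
  rw [LL_wd_mul cs t h, RR_wd_mul cs t h, mul_assoc (L cs t i), ← mul_assoc (LL cs t _) (R cs t i), commL]
  simp only [mul_assoc]

/-- The Casimir operator. -/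
noncomputable def Cas [Fintype W] (t : ℝ) : Module.End ℂ (W → ℂ) := ∑ w : W, ((t : ℂ) ^ cs.length w)⁻¹ • A cs t w

theorem pair_zero [Fintype W] {t : ℝ} (ht : t ≠ 0) {i : I} {w : W} (h : cs.length w < cs.length (cs.simple i * w)) :
    (L cs t i - R cs t i) * (((t : ℂ) ^ cs.length w)⁻¹ • A cs t w) +
      (L cs t i - R cs t i) * (((t : ℂ) ^ cs.length (cs.simple i * w))⁻¹ • A cs t (cs.simple i * w)) = 0 := by
  have ht' : (t : ℂ) ≠ 0 := by exact_mod_cast ht
  have hl : cs.length (cs.simple i * w) = cs.length w + 1 := by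
    rcases lenL cs i w with h1 | h1 <;> omega
  have h1 : ((t : ℂ) ^ cs.length w)⁻¹ • A cs t w +
      ((t : ℂ) ^ cs.length (cs.simple i * w))⁻¹ • A cs t (cs.simple i * w) =
      ((t : ℂ) ^ (cs.length w + 1))⁻¹ • (((t : ℂ) • 1 + L cs t i * R cs t i) * A cs t w) := by
    rw [hl, A_mul cs t h, add_mul, smul_add, smul_mul_assoc, one_mul, smul_smul]
    congr 2
    rw [pow_succ, mul_inv, mul_assoc, inv_mul_cancel₀ ht', mul_one]
  rw [← mul_add, h1, mul_smul_comm, ← mul_assoc, key, zero_mul, smul_zero]

theorem Cas_central [Fintype W] {t : ℝ} (ht : t ≠ 0) (i : I) : (L cs t i - R cs t i) * Cas cs t = 0 := by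
  unfold Cas
  rw [Finset.mul_sum]
  refine Finset.sum_involution (fun w _ => cs.simple i * w) ?_ ?_ ?_ ?_
  · intro w _
    rcases lenL cs i w with h | h
    · exact pair_zero cs ht (by omega)
    · have h1 : cs.simple i * (cs.simple i * w) = w := by simp
      have h2 := pair_zero cs ht (i := i) (w := cs.simple i * w) (by rw [h1]; omega)
      rw [h1, add_comm] at h2
      exact h2
  · intro w _ _ hw
    rcases lenL cs i w with h | h
    · rw [hw] at h; omega
    · rw [hw] at h; omega
  · intro w _
    exact Finset.mem_univ _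
  · intro w _
    simp

end Words

/-! ### The centre -/

/-- The centre of the Hecke algebra. -/
noncomputable def Z (t : ℝ) : Submodule ℂ (W → ℂ) := ⨅ i, LinearMap.ker (L cs t i - R cs t i)

theorem mem_Z {t : ℝ} {v : W → ℂ} : v ∈ Z cs t ↔ ∀ i, L cs t i v = R cs t i v := by
  unfold Z
  rw [Submodule.mem_iInf]
  refine forall_congr' fun i => ?_
  rw [LinearMap.mem_ker, LinearMap.sub_apply, sub_eq_zero]

theorem RR_of_mem_Z {t : ℝ} {v : W → ℂ} (hv : v ∈ Z cs t) (ω : List I) : RR cs t ω v = LL cs t ω.reverse v := by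
  induction ω with
  | nil => rw [RR_nil, List.reverse_nil, LL_nil]
  | cons i ω ih =>
    rw [RR_cons, Module.End.mul_apply, ih, List.reverse_cons, LL_append, Module.End.mul_apply, LL_cons, LL_nil,
      mul_one, (mem_Z cs).1 hv i, ← Module.End.mul_apply, ← commL, Module.End.mul_apply]

section Form

variable [Fintype W]

/-- The hermitian form `⟨T_x, T_y⟩ = t^ℓ(x) δ_{xy}`. -/
noncomputable def ip (t : ℝ) (u v : W → ℂ) : ℂ := ∑ x, (t : ℂ) ^ cs.length x * (u x * conj (v x))

theorem ip_sum_left {ι : Type*} (s : Finset ι) (t : ℝ) (f : ι → W → ℂ) (v : W → ℂ) :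
    ip cs t (∑ a ∈ s, f a) v = ∑ a ∈ s, ip cs t (f a) v := by
  unfold ip
  rw [Finset.sum_comm]
  refine Finset.sum_congr rfl fun x _ => ?_
  rw [Finset.sum_apply, Finset.sum_mul, Finset.mul_sum]

theorem ip_smul_left (t : ℝ) (c : ℂ) (u v : W → ℂ) : ip cs t (c • u) v = c * ip cs t u v := by
  unfold ip
  rw [Finset.mul_sum]
  refine Finset.sum_congr rfl fun x _ => ?_
  rw [Pi.smul_apply, smul_eq_mul]
  ring

/-- `L i` is self-adjoint. -/
theorem ip_L (t : ℝ) (i : I) (u v : W → ℂ) : ip cs t (L cs t i u) v = ip cs t u (L cs t i v) := by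
  rw [← sub_eq_zero]
  unfold ip
  rw [← Finset.sum_sub_distrib]
  refine Finset.sum_involution (fun w _ => cs.simple i * w) ?_ ?_ ?_ ?_
  · intro w _
    have h1 : cs.simple i * (cs.simple i * w) = w := by simp
    rw [L_apply, L_apply, L_apply, L_apply, h1]
    rcases lenL cs i w with h | h
    · rw [if_neg (by omega), if_neg (by omega), if_pos (by omega), if_pos (by omega), h, pow_succ]
      simp only [map_add, map_mul, map_sub, map_one, Complex.conj_ofReal]
      ring
    · rw [if_pos (by omega), if_pos (by omega), if_neg (by omega), if_neg (by omega), ← h, pow_succ]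
      simp only [map_add, map_mul, map_sub, map_one, Complex.conj_ofReal]
      ring
  · intro w _ _ hw
    rcases lenL cs i w with h | h <;> rw [hw] at h <;> omega
  · intro w _
    exact Finset.mem_univ _
  · intro w _
    simp

theorem ip_LL (t : ℝ) (ω : List I) (u v : W → ℂ) : ip cs t (LL cs t ω u) v = ip cs t u (LL cs t ω.reverse v) := by
  induction ω generalizing v with
  | nil => rw [LL_nil, List.reverse_nil, LL_nil]; rfl
  | cons i ω ih =>
    rw [LL_cons, Module.End.mul_apply, ip_L, ih, List.reverse_cons, LL_append, Module.End.mul_apply, LL_cons, LL_nil,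
      mul_one]

/-- The norm. -/
noncomputable def nm (t : ℝ) (v : W → ℂ) : ℝ := ∑ x, t ^ cs.length x * Complex.normSq (v x)

theorem ip_self (t : ℝ) (v : W → ℂ) : ip cs t v v = (nm cs t v : ℂ) := by
  unfold ip nm
  rw [Complex.ofReal_sum]
  refine Finset.sum_congr rfl fun x _ => ?_
  rw [Complex.mul_conj, Complex.ofReal_mul, Complex.ofReal_pow]

theorem nm_nonneg {t : ℝ} (ht : 0 < t) (v : W → ℂ) : 0 ≤ nm cs t v :=
  Finset.sum_nonneg fun x _ => mul_nonneg (pow_pos ht _).le (Complex.normSq_nonneg _)

theorem eq_zero_of_nm {t : ℝ} (ht : 0 < t) {v : W → ℂ} (h : nm cs t v = 0) : v = 0 := by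
  funext x
  have h1 := (Finset.sum_eq_zero_iff_of_nonneg
    (fun y _ => mul_nonneg (pow_pos ht _).le (Complex.normSq_nonneg (v y)))).1 h x (Finset.mem_univ _)
  exact Complex.normSq_eq_zero.1 ((mul_eq_zero.1 h1).resolve_left (pow_pos ht _).ne')

/-- The Casimir operator is injective on the centre. -/
theorem eq_zero_of_Cas {t : ℝ} (ht : 0 < t) {z : W → ℂ} (hz : z ∈ Z cs t) (h : Cas cs t z = 0) : z = 0 := by
  classical
  have h1 : ip cs t (Cas cs t z) z =
      ((∑ w : W, (t ^ cs.length w)⁻¹ * nm cs t (LL cs t (wd cs w).reverse z) : ℝ) : ℂ) := by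
    unfold Cas
    rw [LinearMap.sum_apply, ip_sum_left, Complex.ofReal_sum]
    refine Finset.sum_congr rfl fun w _ => ?_
    rw [LinearMap.smul_apply, ip_smul_left, Complex.ofReal_mul, Complex.ofReal_inv, Complex.ofReal_pow, ← ip_self]
    congr 1
    unfold A
    rw [Module.End.mul_apply, ip_LL, RR_of_mem_Z cs hz]
  have h2 : ip cs t (Cas cs t z) z = 0 := by
    rw [h]
    unfold ip
    simp
  rw [h1] at h2
  have h3 : ∑ w : W, (t ^ cs.length w)⁻¹ * nm cs t (LL cs t (wd cs w).reverse z) = 0 := by exact_mod_cast h2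
  have h4 := (Finset.sum_eq_zero_iff_of_nonneg (fun w _ =>
    mul_nonneg (inv_pos.2 (pow_pos ht _)).le (nm_nonneg cs ht _))).1 h3 1 (Finset.mem_univ _)
  rw [wd_one, cs.length_one, pow_zero, inv_one, one_mul, List.reverse_nil, LL_nil, Module.End.one_apply] at h4
  exact eq_zero_of_nm cs ht h4

theorem range_Cas_le {t : ℝ} (ht : t ≠ 0) : LinearMap.range (Cas cs t) ≤ Z cs t := by
  classical
  rintro _ ⟨v, rfl⟩
  rw [mem_Z]
  intro i
  have h1 := congrArg (fun f => f v) (Cas_central cs ht i)
  simp only [Module.End.mul_apply, LinearMap.sub_apply, LinearMap.zero_apply] at h1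
  exact sub_eq_zero.1 h1

theorem finrank_range_Cas {t : ℝ} (ht : 0 < t) :
    finrank ℂ (LinearMap.range (Cas cs t)) = finrank ℂ (Z cs t) := by
  apply le_antisymm
  · exact Submodule.finrank_mono (range_Cas_le cs ht.ne')
  · let f : Z cs t →ₗ[ℂ] LinearMap.range (Cas cs t) :=
      (Cas cs t).rangeRestrict ∘ₗ (Z cs t).subtype
    apply LinearMap.finrank_le_finrank_of_injective (f := f)
    rw [← LinearMap.ker_eq_bot, LinearMap.ker_eq_bot']
    intro z hz
    have h1 : Cas cs t (z : W → ℂ) = 0 := congrArg Subtype.val hz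
    exact Subtype.ext (eq_zero_of_Cas cs ht z.2 h1)

end Form

end Cfsg.Agent.H116.HeckeA
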